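import Groth.Agent.Lib.RhoShBig.Basic
import Groth.Agent.Lib.TensorGen.Det
import Groth.Agent.Lib.InvDual.Basic
import Groth.Agent.Lib.InvTriv26.Basic
import Groth.Agent.Lib.QCoh.GenericPoint
import Groth.Agent.Lib.Euler.Vanish

/-!
# Duals across big opens, and biduality of determinants
-/

set_option autoImplicit false
set_option linter.all false
set_option backward.isDefEq.respectTransparency false

universe u

open CategoryTheory CategoryTheory.Limits AlgebraicGeometry TopologicalSpace Opposite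
open GrothLib.InvExt (mres IsGen)
open GrothLib.QCoh (stalkLin)

noncomputable section

namespace GrothLib.RhoShBig

variable {X : Scheme.{u}}

theorem germ_mres (G : X.Modules) {W W' : X.Opens} (h : W' ≤ W) {x : X} (hx : x ∈ W') (s : Γ(G, W)) :
    G.presheaf.germ W' x hx (mres G h s) = G.presheaf.germ W x (h hx) s :=
  TopCat.Presheaf.germ_res_apply _ _ _ _ _

/-- Functions extend uniquely over all opens if they do over affine ones. -/
theorem res_bijective_all (U : X.Opens)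
    (h : ∀ {W : X.Opens}, IsAffineOpen W → Function.Bijective (X.presheaf.map (homOfLE (inf_le_left : W ⊓ U ≤ W)).op))
    (W : X.Opens) : Function.Bijective (X.presheaf.map (homOfLE (inf_le_left : W ⊓ U ≤ W)).op) := by
  have hcov : W ≤ ⨆ A : {A : X.affineOpens // A.1 ≤ W}, A.1.1 := fun x hx => by
    obtain ⟨_, ⟨V, hV, rfl⟩, hxV, hle⟩ := X.isBasis_affineOpens.exists_subset_of_mem_open hx W.2
    exact Opens.mem_iSup.mpr ⟨⟨⟨V, hV⟩, hle⟩, hxV⟩
  have rr : ∀ {A B C : X.Opens} (h₁ : B ≤ A) (h₂ : C ≤ B) (s : Γ(X, A)),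
      Ample.res h₂ (Ample.res h₁ s) = Ample.res (h₂.trans h₁) s := fun h₁ h₂ s => Ample.res_res _ _ _
  have hinj : ∀ T : X.Opens, Function.Injective (Ample.res (inf_le_left : T ⊓ U ≤ T) : Γ(X, T) → Γ(X, T ⊓ U)) := by
    intro T a b hab
    refine X.sheaf.eq_of_locally_eq' (fun A : {A : X.affineOpens // A.1 ≤ T} => A.1.1) T (fun A => homOfLE A.2)
      (fun x hx => by
        obtain ⟨_, ⟨V, hV, rfl⟩, hxV, hle⟩ := X.isBasis_affineOpens.exists_subset_of_mem_open hx T.2
        exact Opens.mem_iSup.mpr ⟨⟨⟨V, hV⟩, hle⟩, hxV⟩) a b fun A => ?_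
    refine (h A.1.2).1 ?_
    show Ample.res _ (Ample.res A.2 a) = Ample.res _ (Ample.res A.2 b)
    rw [rr, rr, ← rr (inf_le_left : T ⊓ U ≤ T) (inf_le_inf_right U A.2), hab, rr]
  refine ⟨hinj W, fun s => ?_⟩
  choose t ht using fun A : {A : X.affineOpens // A.1 ≤ W} =>
    (h A.1.2).2 (Ample.res (inf_le_inf_right U A.2) s)
  obtain ⟨g, hg, -⟩ := X.sheaf.existsUnique_gluing' (fun A : {A : X.affineOpens // A.1 ≤ W} => A.1.1) W
    (fun A => homOfLE A.2) hcov t (fun i j => by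
      show Ample.res (inf_le_left : i.1.1 ⊓ j.1.1 ≤ i.1.1) (t i) = Ample.res inf_le_right (t j)
      apply hinj
      rw [rr, rr, ← rr (inf_le_left : i.1.1 ⊓ U ≤ i.1.1) (inf_le_inf_right U inf_le_left),
        ← rr (inf_le_left : j.1.1 ⊓ U ≤ j.1.1) (inf_le_inf_right U inf_le_right),
        show Ample.res inf_le_left (t i) = _ from ht i, show Ample.res inf_le_left (t j) = _ from ht j, rr, rr])
  refine ⟨g, X.sheaf.eq_of_locally_eq' (fun A : {A : X.affineOpens // A.1 ≤ W} => A.1.1 ⊓ U) (W ⊓ U)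
    (fun A => homOfLE (inf_le_inf_right U A.2)) (by rw [← iSup_inf_eq]; exact inf_le_inf_right U hcov) _ _
    fun A => ?_⟩
  show Ample.res (inf_le_inf_right U A.2) (Ample.res _ g) = Ample.res _ s
  rw [rr, ← rr A.2 inf_le_left, show Ample.res A.2 g = t A from hg A]
  exact ht A

/-- Linear forms extend uniquely across an open across which functions do. -/
theorem dual_res_bijective (U : X.Opens)
    (h : ∀ W : X.Opens, Function.Bijective (X.presheaf.map (homOfLE (inf_le_left : W ⊓ U ≤ W)).op))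
    (G : X.Modules) (W : X.Opens) :
    Function.Bijective ((RefHull.dual G).presheaf.map (homOfLE (inf_le_left : W ⊓ U ≤ W)).op) := by
  let O := Coh.structureModule X
  constructor
  · intro g g' hgg
    refine Subtype.ext (funext fun x => LinearMap.ext fun v => ?_)
    obtain ⟨V₀, hV₀, m₀, rfl⟩ := TopCat.Presheaf.exists_germ_eq G.presheaf v
    have hxV : x.1 ∈ V₀ ⊓ W := ⟨hV₀, x.2⟩
    obtain ⟨T, hxT, j, n, hn⟩ := g.2 (V₀ ⊓ W) (homOfLE inf_le_right) (mres G inf_le_left m₀) ⟨x.1, hxV⟩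
    obtain ⟨T', hxT', j', n', hn'⟩ := g'.2 (V₀ ⊓ W) (homOfLE inf_le_right) (mres G inf_le_left m₀) ⟨x.1, hxV⟩
    have e : mres O (inf_le_left : T ⊓ T' ≤ T) n = mres O inf_le_right n' := by
      refine (h (T ⊓ T')).1 ?_
      refine TopCat.Presheaf.section_ext (C := Ab.{u}) (X := X.carrier) ⟨O.presheaf, O.isSheaf⟩ _ _ _ fun y hy => ?_
      change O.presheaf.germ _ y hy (mres O inf_le_left (mres O inf_le_left n)) =
        O.presheaf.germ _ y hy (mres O inf_le_left (mres O inf_le_right n'))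
      rw [germ_mres, germ_mres, germ_mres, germ_mres, ← hn ⟨y, hy.1.1⟩, ← hn' ⟨y, hy.1.2⟩]
      have := congrArg (fun t : Γ(RefHull.dual G, W ⊓ U) => t.1 ⟨y, (j.le hy.1.1).2, hy.2⟩) hgg
      exact LinearMap.congr_fun this _
    have e2 := congrArg (O.presheaf.germ (T ⊓ T') x.1 ⟨hxT, hxT'⟩) e
    rw [germ_mres, germ_mres, ← hn ⟨x.1, hxT⟩, ← hn' ⟨x.1, hxT'⟩, germ_mres] at e2
    exact e2
  · intro g
    -- the extension on sections
    have key : ∀ (V : X.Opens) (hV : V ≤ W) (m : Γ(G, V)), ∃! n : Γ(O, V), ∀ (y : X) (hy : y ∈ V ⊓ U),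
        O.presheaf.germ V y hy.1 n = g.1 ⟨y, hV hy.1, hy.2⟩ (G.presheaf.germ V y hy.1 m) := by
      intro V hV m
      have hloc : ∀ y : (V ⊓ U : X.Opens), ∃ (T : X.Opens) (hT : T ≤ V ⊓ U) (n : Γ(O, T)), y.1 ∈ T ∧
          ∀ (z : X) (hz : z ∈ T), g.1 ⟨z, hV (hT hz).1, (hT hz).2⟩ (G.presheaf.germ V z (hT hz).1 m) =
            O.presheaf.germ T z hz n := by
        intro y
        obtain ⟨T, hyT, j, n, hn⟩ := g.2 (V ⊓ U) (homOfLE (inf_le_inf_right U hV)) (mres G inf_le_left m) y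
        refine ⟨T, j.le, n, hyT, fun z hz => ?_⟩
        have := hn ⟨z, hz⟩
        rw [germ_mres] at this
        exact this
      choose T hT n hyT hn using hloc
      obtain ⟨N, hN, -⟩ := TopCat.Sheaf.existsUnique_gluing' (C := Ab.{u}) (X := X.carrier) ⟨O.presheaf, O.isSheaf⟩
        T (V ⊓ U) (fun y => homOfLE (hT y)) (fun y hy => Opens.mem_iSup.mpr ⟨⟨y, hy⟩, hyT ⟨y, hy⟩⟩) n (fun i k => by
          refine TopCat.Presheaf.section_ext (C := Ab.{u}) (X := X.carrier) ⟨O.presheaf, O.isSheaf⟩ _ _ _ fun z hz => ?_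
          change O.presheaf.germ _ z hz (mres O inf_le_left (n i)) = O.presheaf.germ _ z hz (mres O inf_le_right (n k))
          rw [germ_mres, germ_mres, ← hn i z hz.1, ← hn k z hz.2])
      have hN' : ∀ (z : X) (hz : z ∈ V ⊓ U), O.presheaf.germ (V ⊓ U) z hz N =
          g.1 ⟨z, hV hz.1, hz.2⟩ (G.presheaf.germ V z hz.1 m) := fun z hz => by
        rw [← germ_mres O (hT ⟨z, hz⟩) (hyT ⟨z, hz⟩) N, show mres O (hT ⟨z, hz⟩) N = n ⟨z, hz⟩ from hN ⟨z, hz⟩,
          ← hn ⟨z, hz⟩ z (hyT ⟨z, hz⟩)]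
      obtain ⟨N', hN''⟩ := (h V).2 N
      refine ⟨N', fun y hy => ?_, fun N'' hN3 => (h V).1 ?_⟩
      · rw [← germ_mres O (inf_le_left : V ⊓ U ≤ V) hy N', show mres O inf_le_left N' = N from hN'', hN' y hy]
      · refine TopCat.Presheaf.section_ext (C := Ab.{u}) (X := X.carrier) ⟨O.presheaf, O.isSheaf⟩ _ _ _ fun y hy => ?_
        change O.presheaf.germ _ y hy (mres O inf_le_left N'') = O.presheaf.germ _ y hy (mres O inf_le_left N')
        rw [germ_mres, hN3 y hy, show mres O inf_le_left N' = N from hN'', hN' y hy]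
    let n : ∀ (V : X.Opens) (hV : V ≤ W), Γ(G, V) → Γ(O, V) := fun V hV m => (key V hV m).exists.choose
    have hn : ∀ V hV m (y : X) (hy : y ∈ V ⊓ U), O.presheaf.germ V y hy.1 (n V hV m) =
        g.1 ⟨y, hV hy.1, hy.2⟩ (G.presheaf.germ V y hy.1 m) := fun V hV m => (key V hV m).exists.choose_spec
    have hneq : ∀ V hV m t, (∀ (y : X) (hy : y ∈ V ⊓ U), O.presheaf.germ V y hy.1 t =
        g.1 ⟨y, hV hy.1, hy.2⟩ (G.presheaf.germ V y hy.1 m)) → n V hV m = t :=
      fun V hV m t ht => (key V hV m).unique (hn V hV m) ht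
    have hres : ∀ {V V' : X.Opens} (hV : V ≤ W) (h' : V' ≤ V) (m : Γ(G, V)),
        n V' (h'.trans hV) (mres G h' m) = mres O h' (n V hV m) := fun hV h' m => hneq _ (h'.trans hV) _ _ fun y hy => by
      rw [germ_mres, germ_mres, hn _ hV m y ⟨h' hy.1, hy.2⟩]
    have hwd : ∀ (x : X) (V V' : X.Opens) (hV : V ≤ W) (hV' : V' ≤ W) (hx : x ∈ V) (hx' : x ∈ V')
        (m : Γ(G, V)) (m' : Γ(G, V')), G.presheaf.germ V x hx m = G.presheaf.germ V' x hx' m' →
        O.presheaf.germ V x hx (n V hV m) = O.presheaf.germ V' x hx' (n V' hV' m') := by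
      intro x V V' hV hV' hx hx' m m' he
      obtain ⟨T, hxT, i, i', heq⟩ := TopCat.Presheaf.germ_eq G.presheaf x hx hx' m m' he
      rw [← germ_mres O i.le hxT, ← germ_mres O i'.le hxT, ← hres hV i.le m, ← hres hV' i'.le m']
      exact congrArg (fun t => O.presheaf.germ T x hxT (n T (i.le.trans hV) t)) heq
    have hrep : ∀ (x : W) (v : G.presheaf.stalk x.1), ∃ (V : X.Opens) (hV : V ≤ W) (hx : x.1 ∈ V) (m : Γ(G, V)),
        G.presheaf.germ V x.1 hx m = v := fun x v => by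
      obtain ⟨V₀, hV₀, m₀, rfl⟩ := TopCat.Presheaf.exists_germ_eq G.presheaf v
      exact ⟨V₀ ⊓ W, inf_le_right, ⟨hV₀, x.2⟩, mres G inf_le_left m₀, germ_mres G _ _ m₀⟩
    choose V hV hxV m hm using hrep
    let F : ∀ x : W, G.presheaf.stalk x.1 → O.presheaf.stalk x.1 := fun x v =>
      O.presheaf.germ (V x v) x.1 (hxV x v) (n _ (hV x v) (m x v))
    have hF : ∀ (x : W) (T : X.Opens) (hT : T ≤ W) (hx : x.1 ∈ T) (t : Γ(G, T)),
        F x (G.presheaf.germ T x.1 hx t) = O.presheaf.germ T x.1 hx (n T hT t) := fun x T hT hx t =>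
      hwd x.1 _ _ (hV x _) hT (hxV x _) hx _ _ (hm x _)
    let f : ∀ x : W, RefHull.StalkHom G O x.1 := fun x =>
      { toFun := F x
        map_add' := fun v w => by
          obtain ⟨T, hT, hx, t, rfl⟩ : ∃ (T : X.Opens) (hT : T ≤ W) (hx : x.1 ∈ T) (t : Γ(G, T)),
              G.presheaf.germ T x.1 hx t = v :=
            ⟨V x v, hV x v, hxV x v, m x v, hm x v⟩
          obtain ⟨T', hT', hx', t', rfl⟩ : ∃ (T' : X.Opens) (hT' : T' ≤ W) (hx' : x.1 ∈ T') (t' : Γ(G, T')),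
            G.presheaf.germ T' x.1 hx' t' = w := ⟨V x w, hV x w, hxV x w, m x w, hm x w⟩
          have hx2 : x.1 ∈ T ⊓ T' := ⟨hx, hx'⟩
          rw [hF x T hT, hF x T' hT', ← germ_mres G (inf_le_left : T ⊓ T' ≤ T) hx2 t,
            ← germ_mres G (inf_le_right : T ⊓ T' ≤ T') hx2 t', ← map_add, hF x _ (inf_le_left.trans hT),
            ← germ_mres O (inf_le_left : T ⊓ T' ≤ T) hx2, ← germ_mres O (inf_le_right : T ⊓ T' ≤ T') hx2,
            ← hres hT, ← hres hT', ← map_add]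
          refine congrArg _ (hneq _ (inf_le_left.trans hT) _ _ fun y hy => ?_)
          rw [map_add, map_add, hn _ (inf_le_left.trans hT) _ y hy, hn _ (inf_le_left.trans hT) _ y hy, map_add]
        map_smul' := fun a v => by
          obtain ⟨T, hT, hx, t, rfl⟩ : ∃ (T : X.Opens) (hT : T ≤ W) (hx : x.1 ∈ T) (t : Γ(G, T)),
              G.presheaf.germ T x.1 hx t = v :=
            ⟨V x v, hV x v, hxV x v, m x v, hm x v⟩
          obtain ⟨T', hx', r, rfl⟩ := TopCat.Presheaf.exists_germ_eq X.presheaf a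
          have hx2 : x.1 ∈ T ⊓ T' := ⟨hx, hx'⟩
          rw [RingHom.id_apply, hF x T hT, ← TopCat.Presheaf.germ_res_apply X.presheaf
              (homOfLE (inf_le_right : T ⊓ T' ≤ T')) x.1 hx2 r,
            ← germ_mres G (inf_le_left : T ⊓ T' ≤ T) hx2 t, ← Mero.germ_smul, hF x _ (inf_le_left.trans hT),
            ← germ_mres O (inf_le_left : T ⊓ T' ≤ T) hx2, ← hres hT, ← Mero.germ_smul]
          refine congrArg _ (hneq _ (inf_le_left.trans hT) _ _ fun y hy => ?_)
          rw [Mero.germ_smul, Mero.germ_smul, hn _ (inf_le_left.trans hT) _ y hy, map_smul] }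
    refine ⟨⟨f, fun T i t x => ⟨T, x.2, 𝟙 T, n T i.le t, fun y => hF ⟨y.1, i.le y.2⟩ T i.le y.2 t⟩⟩,
      Subtype.ext (funext fun x => LinearMap.ext fun v => ?_)⟩
    show F ⟨x.1, x.2.1⟩ v = g.1 x v
    obtain ⟨T, hxT, t, rfl⟩ := TopCat.Presheaf.exists_germ_eq G.presheaf v
    have hx2 : x.1 ∈ T ⊓ W := ⟨hxT, x.2.1⟩
    rw [← germ_mres G (inf_le_left : T ⊓ W ≤ T) hx2 t, hF ⟨x.1, x.2.1⟩ _ inf_le_right hx2,
      hn _ inf_le_right _ x.1 ⟨hx2, x.2.2⟩]

/-- The double dual is the direct image of its restriction. -/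
theorem isIso_unit_dual (U : X.Opens)
    (h : ∀ W : X.Opens, Function.Bijective (X.presheaf.map (homOfLE (inf_le_left : W ⊓ U ≤ W)).op))
    (G : X.Modules) : IsIso ((Scheme.Modules.restrictAdjunction U.ι).unit.app (RefHull.dual G)) := by
  refine InvTriv26.isIso_of_app_bijective _ fun W => ?_
  have key : ∀ {A : X.Opens} (h' : A ≤ W), A = W ⊓ U →
      Function.Bijective ((RefHull.dual G).presheaf.map (homOfLE h').op) := by
    rintro _ h' rfl; exact dual_res_bijective U h G W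
  rw [Scheme.Modules.restrictAdjunction_unit_app_app]
  refine key _ ?_
  rw [Scheme.Hom.image_preimage_eq_opensRange_inf, Scheme.Opens.opensRange_ι, inf_comm]

/-- Biduality at a point with a generator nearby. -/
theorem bijective_bidual_of_isGen {M : X.Modules} {V : X.Opens} {e : Γ(M, V)} (he : IsGen M V e)
    {W : X.Opens} (hW : W ≤ V) : Function.Bijective ((RefHull.bidualMap M).app W) := by
  obtain ⟨θ, hθ, hθ1⟩ := InvDual.exists_dual_gen he
  obtain ⟨η, hη, hη1⟩ := InvDual.exists_dual_gen hθ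
  have hb : (RefHull.bidualMap M).app V e = η := by
    refine InvDual.val_injective hθ le_rfl (TopCat.Presheaf.section_ext (C := Ab.{u}) (X := X.carrier)
      ⟨(Coh.structureModule X).presheaf, (Coh.structureModule X).isSheaf⟩ V _ _ fun y hy => ?_)
    change (Coh.structureModule X).presheaf.germ V y hy _ = (Coh.structureModule X).presheaf.germ V y hy _
    rw [InvDual.germ_val, InvDual.germ_val, RefHull.bidualMap_app_apply, RefHull.bidualAt_apply,
      RefHull.evalStalk_germ]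
    have h1 := congrArg ((Coh.structureModule X).presheaf.germ V y hy) hθ1
    have h2 := congrArg ((Coh.structureModule X).presheaf.germ V y hy) hη1
    rw [InvDual.germ_val] at h1 h2
    exact h1.trans h2.symm
  refine ⟨fun a b hab => ?_, fun t => ?_⟩
  · obtain ⟨p, rfl⟩ := he.exists_smul_eq hW a
    obtain ⟨q, rfl⟩ := he.exists_smul_eq hW b
    rw [Scheme.Modules.Hom.app_smul, Scheme.Modules.Hom.app_smul, ← InvExt.mres_app, hb] at hab
    rw [hη.smul_left_injective hW hab]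
  · obtain ⟨p, rfl⟩ := hη.exists_smul_eq hW t
    exact ⟨p • mres M hW e, by rw [Scheme.Modules.Hom.app_smul, ← InvExt.mres_app, hb]⟩

/-- Biduality is an isomorphism over an open covered by generators. -/
theorem isIso_restrict_bidual {M : X.Modules} (U : X.Opens)
    (h : ∀ x ∈ U, ∃ (V : X.Opens) (e : Γ(M, V)), x ∈ V ∧ IsGen M V e) :
    IsIso ((Scheme.Modules.restrictFunctor U.ι).map (RefHull.bidualMap M)) := by
  refine InvTriv26.isIso_of_app_bijective _ fun T => ?_
  show Function.Bijective ((RefHull.bidualMap M).app (U.ι ''ᵁ T))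
  have hb : ∀ x ∈ U.ι ''ᵁ T, Function.Bijective
      ((TopCat.Presheaf.stalkFunctor Ab.{u} x).map (RefHull.bidualMap M).mapPresheaf) := fun x hx => by
    obtain ⟨V, e, hxV, he⟩ := h x (by obtain ⟨t, -, rfl⟩ := hx; exact t.2)
    exact Euler.stalkLin_bijective_of_app_bijective _ hxV fun W hW => bijective_bidual_of_isGen he hW
  exact TopCat.Presheaf.app_bijective_of_stalkFunctor_map_bijective
    (C := Ab.{u}) (F := ⟨M.presheaf, M.isSheaf⟩) (G := ⟨(RefHull.ddual M).presheaf, (RefHull.ddual M).isSheaf⟩)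
    ⟨(RefHull.bidualMap M).mapPresheaf⟩ (U.ι ''ᵁ T) hb

/-- A frame of a restriction is a frame. -/
theorem isFrame_of_restrict {F : X.Modules} {U : X.Opens} {n : ℕ} {T : U.toScheme.Opens}
    {e : Fin n → Γ(F.restrict U.ι, T)} (he : FinCov.IsFrame (F.restrict U.ι) T e) :
    FinCov.IsFrame F (U.ι ''ᵁ T) (fun i => (show Γ(F, U.ι ''ᵁ T) from e i)) := by
  intro V h
  obtain ⟨W, rfl⟩ : ∃ W : U.toScheme.Opens, U.ι ''ᵁ W = V := by
    refine ⟨U.ι ⁻¹ᵁ V, ?_⟩
    rw [Scheme.Hom.image_preimage_eq_opensRange_inf, Scheme.Opens.opensRange_ι]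
    refine inf_eq_right.2 (h.trans fun z hz => ?_)
    obtain ⟨t, -, rfl⟩ := hz
    exact t.2
  have hW : W ≤ T := fun z hz => by
    obtain ⟨t, ht, hte⟩ := h ⟨z, hz, rfl⟩
    exact U.ι.isOpenEmbedding.injective hte ▸ ht
  have hb := he W hW
  refine Eq.mpr (congrArg (Function.Bijective (α := Fin n → Γ(↑U, W)) (β := Γ(F.restrict U.ι, W)))
    (funext fun c => ?_)) hb
  refine Finset.sum_congr rfl fun i _ => ?_
  show c i • (show Γ(F, U.ι ''ᵁ W) from mres F h (e i)) =
    ((U.ι.appIso W).inv (c i)) • (show Γ(F, U.ι ''ᵁ W) from mres F (Scheme.Hom.image_mono _ hW) (e i))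
  rw [Scheme.Opens.ι_appIso]
  rfl

/-- Where a module is free of rank `h`, its `h`-th exterior power has generators. -/
theorem exists_gen_of_isExtPow {F L : X.Modules} {n : ℕ} (hL : ExtPow.IsExtPow n F L) (U : X.Opens)
    (hF : FlatMod.IsFinLocFreeOfRank n (F.restrict U.ι)) {x : X} (hx : x ∈ U) :
    ∃ (V : X.Opens) (e : Γ(L, V)), x ∈ V ∧ IsGen L V e := by
  obtain ⟨T, e, hxT, he⟩ := FinCov.exists_frame_nhd_of_rank hF ⟨x, hx⟩
  obtain ⟨A, hA, hxA, hAT⟩ := exists_isAffineOpen_mem_and_subset (U := U.ι ''ᵁ T) (x := x) ⟨⟨x, hx⟩, hxT, rfl⟩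
  obtain ⟨φ, hφ⟩ := hL
  exact ⟨A, _, hxA, TensorGen.isGen_wedge hφ (U := ⟨A, hA⟩)
    (TensorGen.isFrame_restrict (isFrame_of_restrict he) hAT)⟩

end GrothLib.RhoShBig
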