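import Groth.Agent.Lib.FlatFP.Sheaf
import Groth.Agent.Lib.Ref1.Frame
import Groth.Agent.Lib.FinCov.FrameFree
import Groth.Agent.Lib.FibreFlat.InjLocal
import Groth.Agent.Lib.FibreFlat.Stalk
import Groth.Agent.Lib.OX.PullbackStalk
import Groth.Agent.Lib.LocFreeHom.NearFibre
import Groth.Agent.Lib.CMFree.Regular
import Groth.Agent.Lib.CotTangent.Scheme
import Groth.Prelude.Def_CInt
import Groth.Prelude.Def_TorSh
import Groth.Prelude.Def_FlatMod2
import Mathlib.RingTheory.TensorProduct.IsBaseChangePi
import Mathlib.RingTheory.DiscreteValuationRing.TFAE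
import Mathlib.RingTheory.RegularLocalRing.Defs
import Mathlib.Algebra.Module.FinitePresentation
import Mathlib.LinearAlgebra.FreeModule.PID
import Mathlib.AlgebraicGeometry.Morphisms.Smooth

/-!
# Flat families of torsion-free sheaves are free where the fibre has dimension at most one
-/

set_option autoImplicit false
set_option linter.all false
set_option backward.isDefEq.respectTransparency false

universe u

open CategoryTheory CategoryTheory.Limits AlgebraicGeometry TopologicalSpace IsLocalRing
open scoped TensorProduct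

noncomputable section

namespace GrothLib.RhoShBig

/-- A finitely presented quasi-coherent module with a free stalk is free near the point. -/
theorem exists_free_nhd_of_stalk {X : Scheme.{u}} (F : X.Modules) [F.IsQuasicoherent] (hF : CohB1.IsFP F)
    (x : X) (hfree : Module.Free (X.presheaf.stalk x) (F.presheaf.stalk x))
    (hfin : Module.Finite (X.presheaf.stalk x) (F.presheaf.stalk x)) :
    ∃ (V : X.Opens) (n : ℕ), x ∈ V ∧ Nonempty (F.restrict V.ι ≅ FlatMod.freeMod (↑V) n) := by
  classical
  obtain ⟨U, hU, hxU, -⟩ :=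
    exists_isAffineOpen_mem_and_subset (show x ∈ (⊤ : X.Opens) from trivial)
  letI := X.presheaf.algebra_section_stalk ⟨x, hxU⟩
  haveI := GrothLib.FlatFP.isLocalization_stalk_primeAt hU hxU
  letI : Module Γ(X, U) (F.presheaf.stalk x) := Module.compHom _ (X.presheaf.germ U x hxU).hom
  haveI : IsScalarTower Γ(X, U) (X.presheaf.stalk x) (F.presheaf.stalk x) :=
    IsScalarTower.of_algebraMap_smul fun _ _ => rfl
  haveI := GrothLib.FlatFP.finitePresentation_sections F hF hU
  obtain ⟨g₀, hg₀, hg₀'⟩ := GrothLib.FlatFP.isLocalizedModule_germ F hU hxU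
  haveI := hg₀
  let A := Γ(X, U)
  let B := X.presheaf.stalk x
  let S := (GrothLib.WeakAss.primeAt x hxU).primeCompl
  let n := Module.finrank B (F.presheaf.stalk x)
  let b : Module.Basis (Fin n) B (F.presheaf.stalk x) := Module.finBasis _ _
  choose ms hms using fun i => IsLocalizedModule.surj S g₀ (b i)
  let m : Fin n → Γ(F, U) := fun i => (ms i).1
  have hunit : ∀ i, IsUnit (algebraMap A B ((ms i).2 : A)) := fun i => IsLocalization.map_units B (ms i).2
  let b' : Module.Basis (Fin n) B (F.presheaf.stalk x) := b.isUnitSMul hunit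
  have hb' : ∀ i, b' i = g₀ (m i) := fun i => by
    rw [Module.Basis.isUnitSMul_apply, algebraMap_smul]
    exact hms i
  let u : (Fin n → A) →ₗ[A] Γ(F, U) := Fintype.linearCombination A m
  let f₀ : (Fin n → A) →ₗ[A] (Fin n → B) := LinearMap.pi fun i => Algebra.linearMap A B ∘ₗ LinearMap.proj i
  have hmap : IsLocalizedModule.map S f₀ g₀ u = (Fintype.linearCombination B fun i => g₀ (m i)).restrictScalars A := by
    refine IsLocalizedModule.linearMap_ext S f₀ g₀ (LinearMap.ext fun c => ?_)
    rw [LinearMap.comp_apply, IsLocalizedModule.map_apply, LinearMap.comp_apply,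
      LinearMap.restrictScalars_apply, Fintype.linearCombination_apply, Fintype.linearCombination_apply,
      map_sum]
    refine Finset.sum_congr rfl fun i _ => ?_
    rw [map_smul]
    exact (algebraMap_smul B (c i) _).symm
  have hbij : Function.Bijective (IsLocalizedModule.map S f₀ g₀ u) := by
    rw [hmap]
    have : (Fintype.linearCombination B fun i => g₀ (m i)) = b'.equivFun.symm.toLinearMap := by
      ext c
      simp [Module.Basis.equivFun_symm_apply, Fintype.linearCombination_apply, hb']
    show Function.Bijective (Fintype.linearCombination B fun i => g₀ (m i))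
    rw [this]
    exact b'.equivFun.symm.bijective
  obtain ⟨r, hr, hr'⟩ := exists_bijective_map_powers S f₀ g₀ u hbij
  obtain ⟨hinj, hsurj⟩ := hr' r dvd_rfl
  have hs1 : ∀ z : Γ(F, U), ∃ (c : Fin n → A) (k : ℕ), r ^ k • z = u c := fun z => by
    obtain ⟨w, hw⟩ := hsurj (LocalizedModule.mk z 1)
    induction w using LocalizedModule.induction_on with
    | h c s =>
      obtain ⟨_, k, rfl⟩ := s
      rw [LocalizedModule.map_mk, LocalizedModule.mk_eq] at hw
      obtain ⟨⟨_, l, rfl⟩, hl⟩ := hw
      simp only [Submonoid.smul_def, Submonoid.coe_one, one_smul] at hl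
      exact ⟨r ^ l • c, l + k, by rw [map_smul, pow_add, mul_smul]; exact hl.symm⟩
  have hi1 : ∀ c : Fin n → A, u c = 0 → ∃ k : ℕ, r ^ k • c = 0 := fun c hc => by
    have h0 : LocalizedModule.mk c (1 : Submonoid.powers r) = 0 := hinj (by
      rw [LocalizedModule.map_mk, hc, LocalizedModule.zero_mk, map_zero])
    rw [← LocalizedModule.zero_mk (1 : Submonoid.powers r), LocalizedModule.mk_eq] at h0
    obtain ⟨⟨_, l, rfl⟩, hl⟩ := h0
    simp only [Submonoid.smul_def, Submonoid.coe_one, one_smul, smul_zero] at hl
    exact ⟨l, hl⟩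
  let V := X.basicOpen r
  have hVU : V ≤ U := X.basicOpen_le r
  have hxV : x ∈ V := by
    rw [Scheme.mem_basicOpen _ r x hxU]
    exact IsLocalization.map_units B (⟨r, hr⟩ : S)
  refine ⟨V, n, hxV, FinCov.exists_iso_of_frame (e := fun i => F.presheaf.map (homOfLE hVU).op (m i))
    (Ref1.isFrame_of_stalk fun z hz => ?_)⟩
  have hzU := hVU hz
  letI := X.presheaf.algebra_section_stalk ⟨z, hzU⟩
  haveI := GrothLib.FlatFP.isLocalization_stalk_primeAt hU hzU
  letI : Module Γ(X, U) (F.presheaf.stalk z) := Module.compHom _ (X.presheaf.germ U z hzU).hom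
  haveI : IsScalarTower Γ(X, U) (X.presheaf.stalk z) (F.presheaf.stalk z) :=
    IsScalarTower.of_algebraMap_smul fun _ _ => rfl
  obtain ⟨gz, hgz, hgz'⟩ := GrothLib.FlatFP.isLocalizedModule_germ F hU hzU
  haveI := hgz
  let C := X.presheaf.stalk z
  let T := (GrothLib.WeakAss.primeAt z hzU).primeCompl
  have hrT : r ∈ T := fun h => GrothLib.WeakAss.notMem_primeAt_iff.mpr hz h
  have hcomb : ∀ c : Fin n → C, Ref1.stalkComb (fun i => F.presheaf.map (homOfLE hVU).op (m i)) z hz c =
      ∑ i, c i • gz (m i) := fun c => by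
    rw [Ref1.stalkComb, Fintype.linearCombination_apply]
    exact Finset.sum_congr rfl fun i _ => by rw [hgz', TopCat.Presheaf.germ_res_apply]
  have hgzu : ∀ a : Fin n → A, gz (u a) = ∑ i, algebraMap A C (a i) • gz (m i) := fun a => by
    rw [Fintype.linearCombination_apply, map_sum]
    exact Finset.sum_congr rfl fun i _ => by rw [map_smul, algebraMap_smul]
  constructor
  · rw [injective_iff_map_eq_zero]
    intro c hc
    rw [hcomb] at hc
    obtain ⟨t, ht⟩ := IsLocalization.exist_integer_multiples_of_finite T c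
    choose a ha using ht
    have h1 : gz (u a) = 0 := by
      rw [hgzu]
      refine (Finset.sum_congr rfl fun i _ => ?_).trans ((Finset.smul_sum (r := algebraMap A C (t : A))).symm.trans (by rw [hc, smul_zero]))
      rw [ha i, Algebra.smul_def, mul_smul]
    obtain ⟨t', ht'⟩ := (IsLocalizedModule.eq_zero_iff T gz).mp h1
    obtain ⟨k, hk⟩ := hi1 ((t' : A) • a) (by rw [map_smul]; exact ht')
    funext i
    have h2 : algebraMap A C (r ^ k * (t' : A)) * algebraMap A C (a i) = 0 := by
      rw [← map_mul, mul_assoc]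
      have := congrFun hk i
      simp only [Pi.smul_apply, Pi.zero_apply, smul_eq_mul] at this
      rw [this, map_zero]
    rw [ha, Algebra.smul_def, ← mul_assoc, ← map_mul] at h2
    exact (IsUnit.mul_right_eq_zero (IsLocalization.map_units C
      (⟨_, T.mul_mem (T.mul_mem (T.pow_mem hrT k) t'.2) t.2⟩ : T))).mp h2
  · intro y
    obtain ⟨⟨y', t⟩, hy⟩ := IsLocalizedModule.surj T gz y
    obtain ⟨a, k, hk⟩ := hs1 y'
    obtain ⟨v, hv⟩ := IsLocalization.map_units C (⟨_, T.mul_mem (T.pow_mem hrT k) t.2⟩ : T)
    refine ⟨fun i => (↑v⁻¹ : C) * algebraMap A C (a i), ?_⟩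
    rw [hcomb]
    simp only [mul_smul, ← Finset.smul_sum, ← hgzu, ← hk]
    rw [map_smul, ← show (t : A) • y = gz y' from hy, smul_smul, ← algebraMap_smul C (r ^ k * (t : A)) y, ← hv,
      smul_smul, Units.inv_mul, one_smul]

/-- Free modulo the maximal ideal of the base and flat over the base implies free. -/
theorem free_of_fibre_free {A B F : Type u} [CommRing A] [IsLocalRing A] [CommRing B] [IsLocalRing B]
    [Algebra A B] [IsLocalHom (algebraMap A B)] (hS : CAlgX.IsEssFinitePresentation A B)
    [CommRing F] [Algebra B F] [Nontrivial F] (hs : Function.Surjective (algebraMap B F))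
    (hker : RingHom.ker (algebraMap B F) = (maximalIdeal A).map (algebraMap A B))
    [Module.Flat A B]
    (M : Type u) [AddCommGroup M] [Module A M] [Module B M] [IsScalarTower A B M]
    [Module.FinitePresentation B M] [Module.Flat A M] [Module.Free F (F ⊗[B] M)] :
    Module.Free B M := by
  classical
  let ι := Module.Free.ChooseBasisIndex F (F ⊗[B] M)
  let b := Module.Free.chooseBasis F (F ⊗[B] M)
  have hlift : ∀ t : F ⊗[B] M, ∃ y : M, (1 : F) ⊗ₜ[B] y = t := fun t => TensorProduct.mk_surjective B M F hs t
  choose mb hmb using fun i => hlift (b i)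
  let u : (ι → B) →ₗ[B] M := Fintype.linearCombination B mb
  have hone : ∀ c : ι → B, (1 : F) ⊗ₜ[B] u c = ∑ i, algebraMap B F (c i) • b i := fun c => by
    rw [Fintype.linearCombination_apply, TensorProduct.tmul_sum]
    refine Finset.sum_congr rfl fun i _ => ?_
    rw [TensorProduct.tmul_smul, hmb, algebraMap_smul]
  have hsurj : Function.Surjective u := by
    refine LocFreeHom.surjective_of_surjective_bc hs u fun y => ?_
    choose c hc using fun i => hs (b.repr ((1 : F) ⊗ₜ[B] y) i)
    refine ⟨(1 : F) ⊗ₜ[B] c, ?_⟩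
    rw [LinearMap.lTensor_tmul, hone]
    simp only [hc]
    exact b.sum_repr _
  have hinj : Function.Injective u := by
    refine (GrothLib.FibreFlat.injective_flat_coker_local (R := A) hS u fun c hc => ?_).1
    rw [← hker, ← LocFreeHom.one_tmul_eq_zero_iff hs, hone] at hc
    have hci : ∀ i, algebraMap B F (c i) = 0 := fun i => by
      have := congrArg (fun t => b.repr t i) hc
      simp only [map_zero, Finsupp.zero_apply] at this
      rwa [b.repr_sum_self] at this
    rw [pi_eq_sum_univ c]
    refine sum_mem fun i _ => Submodule.smul_mem_smul ?_ trivial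
    rw [← hker]
    exact hci i
  exact Module.Free.of_equiv (LinearEquiv.ofBijective u ⟨hinj, hsurj⟩)

/-- A regular local ring of dimension at most one is a principal ideal ring. -/
theorem isPrincipalIdealRing_of_regular_dim_le_one (R : Type u) [CommRing R] [IsRegularLocalRing R]
    [IsDomain R] (h : ringKrullDim R ≤ 1) : IsPrincipalIdealRing R := by
  have h1 : Module.finrank (ResidueField R) (CotangentSpace R) ≤ 1 := by
    have := (IsRegularLocalRing.iff_finrank_cotangentSpace R).mp inferInstance
    rw [← this] at h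
    exact_mod_cast h
  exact ((tfae_of_isNoetherianRing_of_isLocalRing_of_isDomain R).out 5 0).mp h1

/-- Flat with torsion-free fibres: free where the fibre has dimension at most one. -/
theorem exists_free_nhd_of_torsionFree {P S : Scheme.{u}} (f : P ⟶ S) [Smooth f] (F : P.Modules)
    (hfp : CohB1.IsFP F) (hfl : FlatMod.IsFlatOver f F) (x : P)
    (htf : TorSh.IsTorsionFree ((Scheme.Modules.pullback (f.fiberι (f x))).obj F))
    (hx : ringKrullDim ↑(CInt.fiberStalk f x) ≤ 1) :
    ∃ (V : P.Opens) (n : ℕ), x ∈ V ∧ Nonempty (F.restrict V.ι ≅ FlatMod.freeMod (↑V) n) := by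
  haveI : F.IsQuasicoherent := by haveI := hfp; infer_instance
  obtain ⟨z, hz, hzeq⟩ : ∃ z, f.fiberι (f x) z = x ∧
      ringKrullDim ((f.fiber (f x)).presheaf.stalk z) ≤ 1 := ⟨f.asFiber x, f.fiberι_asFiber x, hx⟩
  generalize hs : f x = s at htf z hz hzeq
  subst hz
  clear hx
  let y := f.fiberι s z
  obtain ⟨hsurj, hker⟩ := FibreFlat.fiberι_stalkMap f s z
  let A := S.presheaf.stalk (f y)
  let B := P.presheaf.stalk y
  let Q := (f.fiber s).presheaf.stalk z
  letI : Algebra A B := (f.stalkMap y).hom.toAlgebra
  haveI : IsLocalHom (algebraMap A B) := inferInstanceAs (IsLocalHom (f.stalkMap y).hom)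
  letI : Algebra B Q := ((f.fiberι s).stalkMap z).hom.toAlgebra
  haveI : Module.Flat A B := Flat.stalkMap f y
  let M := F.presheaf.stalk y
  letI : Module A M := FlatMod.moduleStalkOver f F y
  haveI : IsScalarTower A B M := IsScalarTower.of_algebraMap_smul fun _ _ => rfl
  haveI : Module.Flat A M := hfl y
  obtain ⟨U, hU, hyU, -⟩ :=
    exists_isAffineOpen_mem_and_subset (show y ∈ (⊤ : P.Opens) from trivial)
  haveI hMfp : Module.FinitePresentation B M := by
    letI := P.presheaf.algebra_section_stalk ⟨y, hyU⟩
    haveI := GrothLib.FlatFP.isLocalization_stalk_primeAt hU hyU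
    letI : Module Γ(P, U) M := Module.compHom _ (P.presheaf.germ U y hyU).hom
    haveI : IsScalarTower Γ(P, U) B M := IsScalarTower.of_algebraMap_smul fun _ _ => rfl
    obtain ⟨g, hg, -⟩ := GrothLib.FlatFP.isLocalizedModule_germ F hU hyU
    haveI := GrothLib.FlatFP.finitePresentation_sections F hfp hU
    exact FinitePresentation.of_isBaseChange g
      (IsLocalizedModule.isBaseChange (GrothLib.WeakAss.primeAt y hyU).primeCompl B g)
  haveI hsm : Smooth (f.fiberToSpecResidueField s) :=
      inferInstanceAs (Smooth (pullback.snd f (S.fromSpecResidueField s)))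
  haveI : IsRegularLocalRing Q := @GrothLib.CotTangent.isRegularLocalRing_stalk _ _ _ (f.fiberToSpecResidueField s) hsm z
  haveI := GrothLib.CMFree.isDomain_of_isRegularLocalRing Q
  haveI := isPrincipalIdealRing_of_regular_dim_le_one Q hzeq
  let e : ((Scheme.Modules.pullback (f.fiberι s)).obj F).presheaf.stalk z ≃ₗ[Q] Q ⊗[B] M :=
    ((OX.pullStalkIso (f.fiberι s) z).app F).toLinearEquiv
  haveI : Module.IsTorsionFree Q (Q ⊗[B] M) := by
    haveI := htf z
    exact e.symm.injective.moduleIsTorsionFree _ (fun r m => map_smul e.symm r m)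
  haveI : Module.Free Q (Q ⊗[B] M) := Module.free_of_finite_type_torsion_free'
  haveI := free_of_fibre_free (A := A) (B := B) (F := Q)
    (GrothLib.FibreFlat.isEssFinitePresentation_stalkMap f y) hsurj hker M
  exact exists_free_nhd_of_stalk F hfp y inferInstance inferInstance

end GrothLib.RhoShBig
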