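import Groth.Agent.Lib.Depth.HartogsGen

/-!
# Extending functions across depth two without quasi-compactness

The quasi-compactness of `U` in `res_surjective_of_depthTwoGen` is replaced by a quasi-compact open
`U₀ ≤ W ⊓ U` on which the sections over `W ⊓ U` are determined.
-/

set_option autoImplicit false
set_option linter.all false

universe u

open CategoryTheory AlgebraicGeometry TopologicalSpace Opposite RingTheory.Sequence

namespace GrothLib.Depth

open GrothLib.WeakAss (primeAt notMem_primeAt_iff)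

variable {X : Scheme.{u}}

theorem res_surjective_of_depthTwoGen_of_compact {U : X.Opens} (hU : DepthTwoGen U)
    {W : X.Opens} (hW : IsAffineOpen W) {U₀ : X.Opens} (h₀ : U₀ ≤ W ⊓ U) (hcomp : IsCompact (U₀ : Set X))
    (hdense : Function.Injective (res (X := X) h₀)) :
    Function.Surjective (res (X := X) (inf_le_left : W ⊓ U ≤ W)) := by
  classical
  intro f
  let A := Γ(X, W)
  let Res : A →+* Γ(X, W ⊓ U) := (X.presheaf.map (homOfLE (inf_le_left : W ⊓ U ≤ W)).op).hom
  let _ : Algebra A Γ(X, W ⊓ U) := Res.toAlgebra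
  let I : Ideal A := Submodule.comap (LinearMap.toSpanSingleton A Γ(X, W ⊓ U) f)
    (LinearMap.range (Algebra.linearMap A Γ(X, W ⊓ U)))
  have hI : ∀ g : A, g ∈ I ↔ ∃ c : A, Res c = Res g * f := fun g => Iff.rfl
  by_contra hno
  have hI1 : I ≠ ⊤ := fun h => by
    obtain ⟨c, hc⟩ := (hI 1).mp (h ▸ Submodule.mem_top)
    exact hno ⟨c, hc.trans (by rw [map_one, one_mul])⟩
  have hext : ∀ s t : Γ(X, W ⊓ U), (∀ z (hz : z ∈ W ⊓ U), z ∈ U₀ →
      X.presheaf.germ (W ⊓ U) z hz s = X.presheaf.germ (W ⊓ U) z hz t) → s = t := fun s t h =>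
    hdense (TopCat.Presheaf.section_ext X.sheaf U₀ _ _ fun z hz => by
      show X.presheaf.germ U₀ z hz _ = X.presheaf.germ U₀ z hz _
      rw [germ_res, germ_res]
      exact h z (h₀ hz) hz)
  let G : Set A := {g | X.basicOpen g ≤ W ⊓ U}
  obtain ⟨F, hFG, hFcov⟩ : ∃ F : Finset A, (∀ g ∈ F, X.basicOpen g ≤ W ⊓ U) ∧ (U₀ : Set X) ⊆ ⋃ g ∈ F, (X.basicOpen g : Set X) := by
    obtain ⟨F, hF⟩ := hcomp.elim_finite_subcover (fun g : G => (X.basicOpen (g : A) : Set X))
      (fun g => (X.basicOpen (g : A)).2) (fun z hz₀ => by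
        have hz := h₀ hz₀
        obtain ⟨g, hg, hzg⟩ := hW.exists_basicOpen_le (⟨z, hz⟩ : (W ⊓ U : X.Opens)) hz.1
        exact Set.mem_iUnion.mpr ⟨⟨g, hg⟩, hzg⟩)
    refine ⟨F.image Subtype.val, fun g hg => by
        obtain ⟨g', -, rfl⟩ := Finset.mem_image.mp hg; exact g'.2, hF.trans (Set.iUnion₂_subset fun g hg => ?_)⟩
    exact Set.subset_biUnion_of_mem (u := fun g : A => (X.basicOpen g : Set X)) (Finset.mem_image_of_mem _ hg)
  -- a power of each element of `F` lies in `I`
  have hlift : ∀ (g : A) (hg : X.basicOpen g ≤ W ⊓ U) (e : Γ(X, W ⊓ U)), ∃ (n : ℕ) (c : A),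
      res hg (Res g ^ n * e) = res (X.basicOpen_le g) c := by
    intro g hg e
    have := hW.isLocalization_basicOpen g
    obtain ⟨⟨c, ⟨_, n, rfl⟩⟩, hc⟩ := IsLocalization.surj (.powers g) (res hg e)
    refine ⟨n, c, ?_⟩
    refine Eq.trans ?_ hc
    show res hg (Res g ^ n * e) = res hg e * res (X.basicOpen_le g) (g ^ n)
    simp only [res, map_mul, map_pow]
    rw [mul_comm]
    congr 2
    exact res_res _ _ g
  have hpow : ∀ g : A, X.basicOpen g ≤ W ⊓ U → g ∈ I.radical := by
    intro g hg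
    obtain ⟨n, c, hc⟩ := hlift g hg f
    -- on every `D(g')` the discrepancy is killed by a power of `g`
    have hk : ∀ g' ∈ F, ∃ k : ℕ, ∀ z (hz : z ∈ W ⊓ U), z ∈ X.basicOpen g' →
        X.presheaf.germ (W ⊓ U) z hz (Res g ^ k * (Res g ^ n * f - Res c)) = 0 := by
      intro g' hg'
      have := hW.isLocalization_basicOpen g'
      obtain ⟨m, d, hd⟩ := hlift g' (hFG _ hg') (Res g ^ n * f - Res c)
      have := hW.isLocalization_basicOpen (g * g')
      have hle : X.basicOpen (g * g') ≤ X.basicOpen g' := (X.basicOpen_mul g g').le.trans inf_le_right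
      have hd0 : algebraMap A Γ(X, X.basicOpen (g * g')) d = algebraMap A Γ(X, X.basicOpen (g * g')) 0 := by
        rw [map_zero]
        show res (X.basicOpen_le _) d = 0
        rw [← res_res (X.basicOpen_le g') hle, ← hd, res_res, res, map_mul]
        refine mul_eq_zero_of_right _ ?_
        rw [map_sub, sub_eq_zero]
        have := congrArg (res ((X.basicOpen_mul g g').le.trans inf_le_left)) hc
        rw [res_res, res_res] at this
        exact this.trans (res_res _ _ c).symm
      obtain ⟨⟨_, k, rfl⟩, hk⟩ :=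
        (IsLocalization.eq_iff_exists (.powers (g * g')) Γ(X, X.basicOpen (g * g'))).mp hd0
      refine ⟨k, fun z hz hzg' => ?_⟩
      have h1 := congrArg (X.presheaf.germ (X.basicOpen g') z hzg') hd
      rw [germ_res, germ_res, map_mul] at h1
      have hu : IsUnit (X.presheaf.germ W z hz.1 g') := (Scheme.mem_basicOpen _ g' z hz.1).mp hzg'
      have h2 := congrArg (X.presheaf.germ W z hz.1) hk
      rw [mul_zero, map_zero, map_mul, map_pow, map_mul, ← h1] at h2
      have h3 : X.presheaf.germ (W ⊓ U) z hz (Res g) = X.presheaf.germ W z hz.1 g :=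
        TopCat.Presheaf.germ_res_apply _ _ _ _ _
      have h4 : X.presheaf.germ (W ⊓ U) z hz (Res g') = X.presheaf.germ W z hz.1 g' :=
        TopCat.Presheaf.germ_res_apply _ _ _ _ _
      rw [map_pow, h4] at h2
      rw [map_mul, map_pow, h3]
      refine ((hu.pow m).mul (hu.pow k)).mul_right_eq_zero.mp ?_
      rw [← h2]; ring
    choose! k hk using hk
    refine ⟨F.sup k + n, (hI _).mpr ⟨g ^ F.sup k * c, ?_⟩⟩
    refine hext _ _ fun z hz hz₀ => ?_
    obtain ⟨g', hg', hzg'⟩ := Set.mem_iUnion₂.mp (hFcov hz₀)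
    have h := hk g' hg' z hz hzg'
    obtain ⟨j, hj⟩ := Nat.exists_eq_add_of_le (Finset.le_sup (f := k) hg')
    simp only [map_mul, map_pow, map_sub] at h
    simp only [map_mul, map_pow, hj, pow_add]
    linear_combination (-(X.presheaf.germ (W ⊓ U) z hz (Res g) ^ j)) * h
  obtain ⟨q, hq⟩ := Ideal.nonempty_minimalPrimes hI1
  obtain ⟨z, hz, hzq⟩ := AssPts.exists_point hW q hq.1.1
  have hzU : z ∉ U := fun h => by
    obtain ⟨g, hg, hzg⟩ := hW.exists_basicOpen_le (⟨z, hz, h⟩ : (W ⊓ U : X.Opens)) hz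
    have : g ∈ q := hq.1.1.radical_le_iff.mpr hq.1.2 (hpow g hg)
    rw [← hzq] at this
    exact notMem_primeAt_iff.mpr hzg this
  obtain ⟨α, β, hαm, hβm, hreg⟩ := hU z hzU
  let B := X.presheaf.stalk z
  let alg : Algebra A B := TopCat.Presheaf.algebra_section_stalk X.presheaf (⟨z, hz⟩ : W)
  let S := (hW.primeIdealOf ⟨z, hz⟩).asIdeal.primeCompl
  have hloc : IsLocalization.AtPrime B (hW.primeIdealOf ⟨z, hz⟩).asIdeal := hW.isLocalization_stalk ⟨z, hz⟩
  have hprime : (hW.primeIdealOf ⟨z, hz⟩).asIdeal = q := by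
    exact (congrArg PrimeSpectrum.asIdeal (QCoh.primeAt_eq_primeIdealOf hW hz).symm).trans hzq
  have hrad : IsLocalRing.maximalIdeal B ≤ (I.map (algebraMap A B)).radical := by
    rw [Ideal.radical_eq_sInf]
    refine le_sInf fun Q hQ => ?_
    have hQp := hQ.2
    have hle : Ideal.comap (algebraMap A B) Q ≤ q := fun c hc => by
      by_contra hcq
      have hcS : c ∈ S := show c ∉ (hW.primeIdealOf ⟨z, hz⟩).asIdeal by rwa [hprime]
      exact hQ.2.ne_top (Ideal.eq_top_of_isUnit_mem _ hc (IsLocalization.map_units B (⟨c, hcS⟩ : S)))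
    have : Ideal.comap (algebraMap A B) Q = q :=
      le_antisymm hle (hq.2 ⟨Ideal.comap_isPrime _ _, Ideal.map_le_iff_le_comap.mp hQ.1⟩ hle)
    rw [← IsLocalization.map_comap S B (IsLocalRing.maximalIdeal B), ← IsLocalization.map_comap S B Q]
    refine Ideal.map_mono (show _ ≤ Ideal.comap (algebraMap A B) Q from ?_)
    rw [this, ← hzq]
    exact le_rfl
  obtain ⟨N, hN⟩ := hrad hαm
  obtain ⟨M, hM⟩ := hrad hβm
  obtain ⟨⟨a, s⟩, ha⟩ := (IsLocalization.mem_map_algebraMap_iff S B).mp hN
  obtain ⟨⟨b, t⟩, hb⟩ := (IsLocalization.mem_map_algebraMap_iff S B).mp hM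
  obtain ⟨a', ha'⟩ := (hI _).mp a.2
  obtain ⟨b', hb'⟩ := (hI _).mp b.2
  rw [isWeaklyRegular_cons_iff, isWeaklyRegular_cons_iff] at hreg
  obtain ⟨hra, hrb, -⟩ := hreg
  have hb2 : ∀ y, β * y ∈ Ideal.span {α} → y ∈ Ideal.span {α} := by
    have := (isSMulRegular_quotient_iff_mem_of_smul_mem _ _).mp hrb
    simpa [Ideal.span, ← Submodule.ideal_span_singleton_smul, Ideal.mul_top] using this
  -- `a b' - b a'` vanishes on `W ⊓ U`, hence everywhere
  have hab : (a : A) * b' = (b : A) * a' :=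
    isSchematicallyDense_of_depthOneGen hU.one W (show Res ((a : A) * b') = Res ((b : A) * a') by
      rw [map_mul, map_mul, hb', ha']; ring)
  obtain ⟨us, hus⟩ := IsLocalization.map_units B s
  obtain ⟨ut, hut⟩ := IsLocalization.map_units B t
  have habB := congrArg (algebraMap A B) hab
  rw [map_mul, map_mul, ← ha, ← hb, ← hus, ← hut] at habB
  obtain ⟨c, hc⟩ := Ideal.mem_span_singleton'.mp (mem_span_pow_of_mul_pow hra hb2 N M
    ((↑us⁻¹ : B) * algebraMap A B a') (Ideal.mem_span_singleton'.mpr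
      ⟨(↑ut⁻¹ : B) * algebraMap A B b', by
        calc (↑ut⁻¹ : B) * algebraMap A B b' * α ^ N
            = (↑ut⁻¹ : B) * ↑us⁻¹ * (α ^ N * ↑us * algebraMap A B b') := by
              rw [show α ^ N * (us : B) * algebraMap A B b' = (us : B) * (α ^ N * algebraMap A B b') by ring]
              simp [mul_assoc, mul_comm (α ^ N)]
          _ = (↑ut⁻¹ : B) * ↑us⁻¹ * (β ^ M * ↑ut * algebraMap A B a') := by rw [habB]
          _ = β ^ M * ((↑us⁻¹ : B) * algebraMap A B a') := by
              rw [show β ^ M * (ut : B) * algebraMap A B a' = (ut : B) * (β ^ M * algebraMap A B a') by ring]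
              rw [mul_comm (↑ut⁻¹ : B) ↑us⁻¹, mul_assoc, Units.inv_mul_cancel_left]
              ring⟩))
  obtain ⟨c', s', rfl⟩ := IsLocalization.exists_mk'_eq S c
  have heq : algebraMap A B ((a : A) * c') = algebraMap A B (s' * a') := by
    rw [map_mul, map_mul, ← ha, ← hus, ← IsLocalization.mk'_spec B c' s']
    calc α ^ N * ↑us * (IsLocalization.mk' B c' s' * algebraMap A B s')
        = algebraMap A B s' * (↑us * (IsLocalization.mk' B c' s' * α ^ N)) := by ring
      _ = _ := by rw [hc, Units.mul_inv_cancel_left]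
  obtain ⟨s'', hs''⟩ := (IsLocalization.eq_iff_exists S B).mp heq
  -- `s'' (c' - s' f)` is killed by `a`
  have hkill : ∀ g ∈ F, ∃ w : A, w ∈ S ∧ ∀ y (hy : y ∈ W ⊓ U), y ∈ X.basicOpen g →
      X.presheaf.germ (W ⊓ U) y hy (Res w * (Res c' - Res s' * f)) = 0 := by
    intro g hg
    obtain ⟨m, d, hd⟩ := hlift g (hFG _ hg) (Res s'' * (Res c' - Res s' * f))
    have := hW.isLocalization_basicOpen g
    have hker : Res (a : A) * (Res s'' * (Res c' - Res s' * f)) = 0 := by
      rw [show Res (a : A) * (Res s'' * (Res c' - Res s' * f)) =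
        Res s'' * (Res (a : A) * Res c') - Res s'' * Res s' * (Res (a : A) * f) by ring, ← ha', ← map_mul,
        ← map_mul, ← map_mul, ← map_mul, ← map_sub, hs'']
      ring_nf
      exact map_zero _
    have hd0 : algebraMap A Γ(X, X.basicOpen g) ((a : A) * d) = algebraMap A Γ(X, X.basicOpen g) 0 := by
      show res (X.basicOpen_le g) ((a : A) * d) = res (X.basicOpen_le g) 0
      have := congrArg (res (hFG _ hg)) hker
      simp only [res, map_mul, map_zero] at this hd ⊢
      rw [← hd]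
      have ea : res (X.basicOpen_le g) (a : A) = res (hFG _ hg) (Res (a : A)) := (res_res _ _ _).symm
      simp only [res, map_pow] at ea ⊢
      rw [ea]
      linear_combination (res (hFG _ hg) (Res g)) ^ m * this
    obtain ⟨⟨_, k, rfl⟩, hk⟩ :=
      (IsLocalization.eq_iff_exists (.powers g) Γ(X, X.basicOpen g)).mp hd0
    have hB := congrArg (algebraMap A B) hk
    rw [mul_zero, map_zero, map_mul, map_mul, ← ha, ← hus] at hB
    have : algebraMap A B (g ^ k * d) = 0 := by
      refine (hra.pow N) ?_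
      show α ^ N * _ = α ^ N * 0
      rw [mul_zero, map_mul]
      calc α ^ N * (algebraMap A B (g ^ k) * algebraMap A B d)
          = (↑us⁻¹ : B) * (algebraMap A B (g ^ k) * (α ^ N * ↑us * algebraMap A B d)) := by
            rw [show algebraMap A B (g ^ k) * (α ^ N * (us : B) * algebraMap A B d) =
              (us : B) * (α ^ N * (algebraMap A B (g ^ k) * algebraMap A B d)) by ring,
              Units.inv_mul_cancel_left]
        _ = 0 := by rw [hB, mul_zero]
    obtain ⟨u, hu⟩ := (IsLocalization.map_eq_zero_iff S B _).mp this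
    refine ⟨u * s'', S.mul_mem u.2 s''.2, fun y hy hyg => ?_⟩
    have h1 := congrArg (X.presheaf.germ (X.basicOpen g) y hyg) hd
    rw [germ_res, germ_res, map_mul, map_mul] at h1
    have h2 := congrArg (X.presheaf.germ W y hy.1) hu
    rw [map_zero, map_mul, map_mul, ← h1] at h2
    have h3 : ∀ v : A, X.presheaf.germ (W ⊓ U) y hy (Res v) = X.presheaf.germ W y hy.1 v :=
      fun v => TopCat.Presheaf.germ_res_apply _ _ _ _ _
    have hu : IsUnit (X.presheaf.germ W y hy.1 g) := (Scheme.mem_basicOpen _ g y hy.1).mp hyg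
    rw [map_mul, h3, map_mul]
    refine ((hu.pow m).mul (hu.pow k)).mul_right_eq_zero.mp ?_
    simp only [map_pow, h3] at h2 ⊢
    linear_combination h2
  choose! w hwS hw using hkill
  have hmem : (∏ g ∈ F, w g) * (s' : A) ∈ I := (hI _).mpr ⟨(∏ g ∈ F, w g) * c', by
    refine hext _ _ fun y hy hy₀ => ?_
    obtain ⟨g, hg, hyg⟩ := Set.mem_iUnion₂.mp (hFcov hy₀)
    have h := hw g hg y hy hyg
    rw [← Finset.prod_erase_mul _ _ hg]
    simp only [map_mul, map_sub] at h ⊢
    linear_combination (X.presheaf.germ (W ⊓ U) y hy (Res (∏ x ∈ F.erase g, w x))) * h⟩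
  exact (show _ ∉ (hW.primeIdealOf ⟨z, hz⟩).asIdeal from S.mul_mem (Submonoid.prod_mem _ hwS) s'.2)
    (by rw [hprime]; exact hq.1.2 hmem)

end GrothLib.Depth
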