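import Groth.Prelude.Def_CInt
import Groth.Prelude.Def_CAlg
import Groth.Agent.S4871
import Groth.Agent.Lib.SchDensePull.Basic
import Groth.Agent.Lib.Depth.Basic
import Groth.Agent.Lib.Depth.HartogsGen
import Groth.Agent.Lib.CMFree.Regular
import Groth.Agent.Lib.CotTangent.Scheme
import Groth.Agent.Lib.FibreFlat.InjLocal
import Groth.Agent.Lib.FibreFlat.Stalk
import Groth.Agent.Lib.DimCut.FibreStalk
import Groth.Agent.Lib.RhoShBig.Hartogs
import Mathlib.AlgebraicGeometry.Geometrically.Irreducible
import Mathlib.AlgebraicGeometry.Morphisms.Smooth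

/-!
# Big opens of smooth families with irreducible fibres

For a smooth morphism with geometrically irreducible fibres over an arbitrary base: an open meeting
every fibre is schematically dense, the local rings at points of fibre codimension `≥ 2` have depth
`≥ 2` (EGA IV 11.3.7), and functions extend across such points.
-/

set_option autoImplicit false
set_option linter.all false

universe u

open CategoryTheory CategoryTheory.Limits AlgebraicGeometry TopologicalSpace IsLocalRing
open RingTheory.Sequence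
open scoped Pointwise

noncomputable section

namespace GrothLib.RhoShBig

/-- A sequence weakly regular on `M/𝔪M` is weakly regular on the flat module `M`, for local
homomorphisms essentially of finite presentation. -/
theorem isWeaklyRegular_of_fibre_essFP {A B : Type u} [CommRing A] [IsLocalRing A] [CommRing B]
    [IsLocalRing B] [Algebra A B] [IsLocalHom (algebraMap A B)]
    (hS : CAlgX.IsEssFinitePresentation A B) (rs : List B) :
    ∀ (M : Type u) [AddCommGroup M] [Module A M] [Module B M]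
      [IsScalarTower A B M] [Module.FinitePresentation B M] [Module.Flat A M],
      IsWeaklyRegular (M ⧸ ((maximalIdeal A).map (algebraMap A B) • ⊤ : Submodule B M)) rs →
        IsWeaklyRegular M rs := by
  induction rs with
  | nil => intros; exact IsWeaklyRegular.nil B _
  | cons x rs ih =>
    intro M _ _ _ _ _ _ h
    obtain ⟨h1, h2⟩ := (isWeaklyRegular_cons_iff _ x rs).mp h
    set K := (maximalIdeal A).map (algebraMap A B)
    obtain ⟨h3, h4⟩ := GrothLib.FibreFlat.injective_flat_coker_local (R := A) hS (LinearMap.lsmul B M x)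
      fun m hm => (Submodule.Quotient.mk_eq_zero _).mp (h1.right_eq_zero_of_smul
        (x := Submodule.Quotient.mk m) ((Submodule.Quotient.mk_eq_zero _).mpr hm))
    have hr : LinearMap.range (LinearMap.lsmul B M x) = (x • ⊤ : Submodule B M) := by
      ext m
      simp [Submodule.mem_smul_pointwise_iff_exists]
    haveI : Module.Flat A (QuotSMulTop x M) := by
      haveI := h4
      exact Module.Flat.of_linearEquiv ((Submodule.quotEquivOfEq _ _ hr.symm).restrictScalars A)
    haveI : Module.FinitePresentation B (QuotSMulTop x M) :=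
      Module.finitePresentation_of_surjective (x • ⊤ : Submodule B M).mkQ (Submodule.mkQ_surjective _)
        (by rw [Submodule.ker_mkQ, ← hr, LinearMap.range_eq_map]; exact Module.Finite.fg_top.map _)
    refine IsWeaklyRegular.cons h3 (ih (QuotSMulTop x M) ?_)
    have hK : (K • ⊤ : Submodule B (QuotSMulTop x M)) =
        (K • ⊤ : Submodule B M).map (x • ⊤ : Submodule B M).mkQ := by
      rw [Submodule.map_smul'', Submodule.map_top, Submodule.range_mkQ]
    have hX : (x • ⊤ : Submodule B (M ⧸ (K • ⊤ : Submodule B M))) =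
        (x • ⊤ : Submodule B M).map (K • ⊤ : Submodule B M).mkQ := by
      rw [Submodule.map_pointwise_smul, Submodule.map_top, Submodule.range_mkQ]
    let e : (QuotSMulTop x (M ⧸ (K • ⊤ : Submodule B M))) ≃ₗ[B]
        (QuotSMulTop x M ⧸ (K • ⊤ : Submodule B (QuotSMulTop x M))) :=
      Submodule.quotEquivOfEq _ _ hX ≪≫ₗ Submodule.quotientQuotientEquivQuotientSup _ _ ≪≫ₗ
        Submodule.quotEquivOfEq _ _ (sup_comm _ _) ≪≫ₗ
        (Submodule.quotientQuotientEquivQuotientSup _ _).symm ≪≫ₗ
        (Submodule.quotEquivOfEq _ _ hK).symm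
    exact (e.isWeaklyRegular_congr rs).mp h2

variable {P S : Scheme.{u}} (f : P ⟶ S) [Smooth f] [GeometricallyIrreducible f]

/-- A big open contains a point of every fibre. -/
theorem exists_mem_of_big (U : P.Opens)
    (hU : ∀ x : P, x ∉ U → (2 : WithBot ℕ∞) ≤ ringKrullDim ↑(CInt.fiberStalk f x)) (s : S) :
    ∃ y ∈ U, f y = s := by
  refine ⟨f.fiberι s (genericPoint (f.fiber s)), ?_, GrothLib.FibreFlat.fiberι_comp_apply f s _⟩
  by_contra hy
  have h := hU _ hy
  rw [← GrothLib.DimCut.dim_stalk_fiber_eq f s (genericPoint (f.fiber s)) rfl] at h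
  haveI hsm : Smooth (f.fiberToSpecResidueField s) :=
      inferInstanceAs (Smooth (pullback.snd f (S.fromSpecResidueField s)))
  haveI := @GrothLib.CotTangent.isRegularLocalRing_stalk _ _ _ (f.fiberToSpecResidueField s) hsm (genericPoint (f.fiber s))
  haveI := GrothLib.CMFree.isDomain_of_isRegularLocalRing ((f.fiber s).presheaf.stalk (genericPoint (f.fiber s)))
  suffices maximalIdeal ((f.fiber s).presheaf.stalk (genericPoint (f.fiber s))) = ⊥ by
    rw [ringKrullDim_eq_zero_of_isField (isField_iff_maximalIdeal_eq.mpr this)] at h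
    exact absurd h (by decide)
  by_contra hne
  have hmem : (f.fiber s).fromSpecStalk (genericPoint (f.fiber s)) ⟨⊥, Ideal.isPrime_bot⟩ ∈
      Set.range ((f.fiber s).fromSpecStalk (genericPoint (f.fiber s))) := ⟨_, rfl⟩
  rw [Scheme.range_fromSpecStalk] at hmem
  have heq : (f.fiber s).fromSpecStalk (genericPoint (f.fiber s)) ⟨⊥, Ideal.isPrime_bot⟩ =
      (f.fiber s).fromSpecStalk (genericPoint (f.fiber s))
        (closedPoint ((f.fiber s).presheaf.stalk (genericPoint (f.fiber s)))) := by
    rw [Scheme.fromSpecStalk_closedPoint]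
    exact (hmem.antisymm (genericPoint_specializes _)).eq
  exact hne (congrArg PrimeSpectrum.asIdeal
    (((f.fiber s).fromSpecStalk (genericPoint (f.fiber s))).isEmbedding.injective heq)).symm

/-- An open meeting every fibre is schematically dense. -/
theorem isSchematicallyDense_of_meets (U : P.Opens) (hU : ∀ s : S, ∃ y ∈ U, f y = s) :
    CInt.IsSchematicallyDense U := by
  have huniv := (Groth.Agent.S4871.result f U).2 fun s => by
    haveI hsm : Smooth (f.fiberToSpecResidueField s) :=
      inferInstanceAs (Smooth (pullback.snd f (S.fromSpecResidueField s)))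
    refine GrothLib.Depth.isSchematicallyDense_of_depthOneGen fun y hy => ?_
    haveI := @GrothLib.CotTangent.isRegularLocalRing_stalk _ _ _ (f.fiberToSpecResidueField s) hsm y
    haveI := GrothLib.CMFree.isDomain_of_isRegularLocalRing ((f.fiber s).presheaf.stalk y)
    suffices hne : maximalIdeal ((f.fiber s).presheaf.stalk y) ≠ ⊥ by
      obtain ⟨t, ht, ht0⟩ := Submodule.exists_mem_ne_zero_of_ne_bot hne
      exact ⟨t, ht, fun a b h => mul_left_cancel₀ ht0 h⟩
    intro hbot
    obtain ⟨w, hwU, hw⟩ := hU s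
    have hw' : w ∈ Set.range (f.fiberι s) := by rw [Scheme.Hom.range_fiberι]; exact hw
    obtain ⟨w, rfl⟩ := hw'
    have hgU : genericPoint (f.fiber s) ∈ (f.fiberι s) ⁻¹ᵁ U :=
      (genericPoint_specializes w).mem_open ((f.fiberι s) ⁻¹ᵁ U).2 hwU
    have hmem : genericPoint (f.fiber s) ∈ Set.range ((f.fiber s).fromSpecStalk y) := by
      rw [Scheme.range_fromSpecStalk]
      exact genericPoint_specializes y
    obtain ⟨p, hp⟩ := hmem
    have hpc : p = closedPoint ((f.fiber s).presheaf.stalk y) :=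
      PrimeSpectrum.ext (le_antisymm (le_maximalIdeal p.2.ne_top) (hbot.le.trans bot_le))
    rw [hpc, Scheme.fromSpecStalk_closedPoint] at hp
    exact hy (hp ▸ hgU)
  have h2 := GrothLib.SchDensePull.isSchematicallyDense_preimage (inv (pullback.fst f (𝟙 S))) _
    (huniv S (𝟙 S))
  rwa [← Scheme.Hom.comp_preimage, IsIso.inv_hom_id, Scheme.Hom.id_preimage] at h2

/-- Two-term regular sequences at points of fibre codimension `≥ 2`. -/
theorem exists_pair (x : P) (hx : (2 : WithBot ℕ∞) ≤ ringKrullDim ↑(CInt.fiberStalk f x)) :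
    ∃ a b : P.presheaf.stalk x, a ∈ maximalIdeal (P.presheaf.stalk x) ∧
      b ∈ maximalIdeal (P.presheaf.stalk x) ∧ IsWeaklyRegular (P.presheaf.stalk x) [a, b] := by
  let A := S.presheaf.stalk (f x)
  let B := P.presheaf.stalk x
  let F := CInt.fiberStalk f x
  letI : Algebra A B := (f.stalkMap x).hom.toAlgebra
  haveI : IsLocalHom (algebraMap A B) := inferInstanceAs (IsLocalHom (f.stalkMap x).hom)
  haveI : Module.Flat A B := Flat.stalkMap f x
  have hess : CAlgX.IsEssFinitePresentation A B := GrothLib.FibreFlat.isEssFinitePresentation_stalkMap f x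
  obtain ⟨hsurj, hker⟩ := GrothLib.FibreFlat.fiberι_stalkMap' f (f x) (f.asFiber x) x
    (f.fiberι_asFiber x)
  let φ : B →+* F :=
    ((P.presheaf.stalkCongr (.of_eq (f.fiberι_asFiber x).symm)).hom ≫
      (f.fiberι (f x)).stalkMap (f.asFiber x)).hom
  haveI hsm : Smooth (f.fiberToSpecResidueField (f x)) :=
      inferInstanceAs (Smooth (pullback.snd f (S.fromSpecResidueField (f x))))
  haveI : IsRegularLocalRing F :=
    @GrothLib.CotTangent.isRegularLocalRing_stalk _ _ _ (f.fiberToSpecResidueField (f x)) hsm (f.asFiber x)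
  obtain ⟨rs, hreg, hmem, hlen⟩ := GrothLib.CMFree.exists_weaklyRegular_of_isRegularLocalRing F
  have h2 : 2 ≤ rs.length := by
    have := hx.trans_eq hlen.symm
    exact_mod_cast this
  obtain ⟨r₁, r₂, rest, rfl⟩ : ∃ r₁ r₂ rest, rs = r₁ :: r₂ :: rest := by
    match rs, h2 with
    | r₁ :: r₂ :: rest, _ => exact ⟨r₁, r₂, rest, rfl⟩
  have hreg2 : IsWeaklyRegular F [r₁, r₂] := by
    rw [isWeaklyRegular_cons_iff, isWeaklyRegular_cons_iff] at hreg ⊢
    exact ⟨hreg.1, hreg.2.1, IsWeaklyRegular.nil _ _⟩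
  choose g hg using hsurj
  have hgm : ∀ r ∈ maximalIdeal F, g r ∈ maximalIdeal B := fun r hr => by
    rw [mem_maximalIdeal, mem_nonunits_iff] at hr ⊢
    exact fun hu => hr (hg r ▸ hu.map φ)
  refine ⟨g r₁, g r₂, hgm _ (hmem _ (by simp)), hgm _ (hmem _ (by simp)), ?_⟩
  refine isWeaklyRegular_of_fibre_essFP hess [g r₁, g r₂] B ?_
  let e : (B ⧸ ((maximalIdeal A).map (algebraMap A B) • ⊤ : Submodule B B)) ≃+ F :=
    (Submodule.quotEquivOfEq _ (RingHom.ker φ) (by
      rw [Ideal.smul_eq_mul, Ideal.mul_top]; exact hker.symm)).toAddEquiv.trans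
      (RingHom.quotientKerEquivOfSurjective (f := φ) fun y => ⟨g y, hg y⟩).toAddEquiv
  refine (e.isWeaklyRegular_congr (bs := [r₁, r₂]) ?_).mpr hreg2
  refine (List.forall₂_map_left_iff (f := g) (l := [r₁, r₂])).mpr (List.forall₂_same.mpr fun r _ y => ?_)
  obtain ⟨y, rfl⟩ := Submodule.Quotient.mk_surjective _ y
  rw [← Submodule.Quotient.mk_smul]
  change φ (g r • y) = r • φ y
  rw [smul_eq_mul, smul_eq_mul, map_mul]
  exact congrArg (· * φ y) (hg r)

/-- Functions extend uniquely across the complement of a big open. -/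
theorem res_bijective_of_big (U : P.Opens)
    (hU : ∀ x : P, x ∉ U → (2 : WithBot ℕ∞) ≤ ringKrullDim ↑(CInt.fiberStalk f x))
    {W : P.Opens} (hW : IsAffineOpen W) :
    Function.Bijective (P.presheaf.map (homOfLE (inf_le_left : W ⊓ U ≤ W)).op) := by
  classical
  have hd := isSchematicallyDense_of_meets f U (exists_mem_of_big f U hU)
  let S' : S.Opens := ⟨f '' (W : Set P), f.isOpenMap _ W.2⟩
  have hS'c : IsCompact (S' : Set S) := hW.isCompact.image f.continuous
  -- affine opens in `W ⊓ U` over every point of `S'`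
  have hpt : ∀ s : (S' : Set S), ∃ V : P.Opens, IsAffineOpen V ∧ V ≤ W ⊓ U ∧ (s : S) ∈ f '' (V : Set P) := by
    rintro ⟨_, w, hw, rfl⟩
    obtain ⟨u, hu, hus⟩ := exists_mem_of_big f U hU (f w)
    obtain ⟨u, rfl⟩ : u ∈ Set.range (f.fiberι (f w)) := by rw [Scheme.Hom.range_fiberι]; exact hus
    obtain ⟨v, hv⟩ : ∃ v, f.fiberι (f w) v = w := by
      have : w ∈ Set.range (f.fiberι (f w)) := by rw [Scheme.Hom.range_fiberι]; rfl
      exact this
    let η := f.fiberι (f w) (genericPoint (f.fiber (f w)))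
    have h1 : η ∈ U := ((genericPoint_specializes u).map (f.fiberι _).continuous).mem_open U.2 hu
    have h2 : η ∈ W := ((genericPoint_specializes v).map (f.fiberι _).continuous).mem_open W.2 (show f.fiberι (f w) v ∈ W by rw [hv]; exact hw)
    obtain ⟨_, ⟨V, hV, rfl⟩, hηV, hVWU⟩ :=
      P.isBasis_affineOpens.exists_subset_of_mem_open (show η ∈ (W ⊓ U : P.Opens) from ⟨h2, h1⟩) (W ⊓ U).2
    exact ⟨V, hV, hVWU, η, hηV, GrothLib.FibreFlat.fiberι_comp_apply f (f w) _⟩
  choose V hV hVle hVs using hpt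
  obtain ⟨F, hF⟩ := hS'c.elim_finite_subcover (fun s => f '' (V s : Set P))
    (fun s => f.isOpenMap _ (V s).2) (fun s hs => Set.mem_iUnion.mpr ⟨⟨s, hs⟩, hVs _⟩)
  let U₀ : P.Opens := ⨆ s ∈ F, V s
  have h₀ : U₀ ≤ W ⊓ U := iSup₂_le fun s _ => hVle s
  have hc : IsCompact (U₀ : Set P) := by
    have : (U₀ : Set P) = ⋃ s ∈ (F : Set _), (V s : Set P) := by simp [U₀]
    rw [this]
    exact F.finite_toSet.isCompact_biUnion fun s _ => (hV s).isCompact
  haveI : Smooth (f ∣_ S') := MorphismProperty.of_isPullback (isPullback_morphismRestrict f S').flip ‹_›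
  have hdd : CInt.IsSchematicallyDense ((f ⁻¹ᵁ S').ι ⁻¹ᵁ U₀) := by
    refine isSchematicallyDense_of_meets (f ∣_ S') _ fun s => ?_
    obtain ⟨i, hi, y, hy, hys⟩ := Set.mem_iUnion₂.mp (hF s.2)
    refine ⟨⟨y, show f y ∈ S' from hys ▸ s.2⟩, (le_iSup₂ (f := fun s _ => V s) i hi) hy, Subtype.ext ?_⟩
    rw [morphismRestrict_base]
    exact hys
  have hW' : W ⊓ U ≤ f ⁻¹ᵁ S' := inf_le_left.trans fun w hw => ⟨w, hw, rfl⟩
  have hinj : Function.Injective (GrothLib.Depth.res (X := P) h₀) := by
    have key : ∀ {A B : P.Opens} (h' : B ≤ A), A = W ⊓ U → B = U₀ →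
        Function.Injective (P.presheaf.map (homOfLE h').op) →
        Function.Injective (P.presheaf.map (homOfLE h₀).op) := by
      rintro _ _ h' rfl rfl h; exact h
    refine key (Scheme.Hom.image_mono (f ⁻¹ᵁ S').ι (inf_le_left :
      (f ⁻¹ᵁ S').ι ⁻¹ᵁ (W ⊓ U) ⊓ (f ⁻¹ᵁ S').ι ⁻¹ᵁ U₀ ≤ _)) ?_ ?_ (hdd _)
    · rw [Scheme.Hom.image_preimage_eq_opensRange_inf, Scheme.Opens.opensRange_ι, inf_eq_right.mpr hW']
    · rw [← Scheme.Hom.preimage_inf, inf_eq_right.mpr h₀,
        Scheme.Hom.image_preimage_eq_opensRange_inf, Scheme.Opens.opensRange_ι,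
        inf_eq_right.mpr (h₀.trans hW')]
  exact ⟨hd W, GrothLib.Depth.res_surjective_of_depthTwoGen_of_compact
    (fun z hz => exists_pair f z (hU z hz)) hW h₀ hc hinj⟩

end GrothLib.RhoShBig
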